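import Cfsg.Agent.H178.RG.Defs
import Mathlib.LinearAlgebra.Projection
import Mathlib.LinearAlgebra.FiniteDimensional.Lemmas

/-!
# S5714, B2: the first moment bound for the general linear group (helper83)
-/

set_option autoImplicit false

namespace Cfsg.Agent.H83.RG

open Cfsg.Agent.H178.RG
open Polynomial

/-- the case of one Gram datum of `fm_core` -/
theorem core_one {I V : Type} [Group I] [Finite I] [MulAction I V] [Finite V] (P : Set (I × V))
    (h : ∀ a ∈ P, ∀ b ∈ P, ∃ g : I, ∀ i : ℕ, g • (a.1 ^ i • a.2) = b.1 ^ i • b.2) :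
    Nat.card P ≤ Nat.card I := by
  classical
  rcases isEmpty_or_nonempty P with hP | ⟨⟨b, hb⟩⟩
  · rw [Nat.card_of_isEmpty]
    exact Nat.zero_le _
  choose g hg using fun a : P => h a.1 a.2 b hb
  let K : Subgroup I :=
    { carrier := {k | ∀ i : ℕ, k • (b.1 ^ i • b.2) = b.1 ^ i • b.2}
      mul_mem' := by
        intro x y hx hy i
        rw [mul_smul, hy i, hx i]
      one_mem' := fun i => one_smul _ _
      inv_mem' := by
        intro x hx i
        rw [inv_smul_eq_iff, hx i] }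
  have hK : ∀ {k : I}, k ∈ K ↔ ∀ i : ℕ, k • (b.1 ^ i • b.2) = b.1 ^ i • b.2 := Iff.rfl
  -- the action of `γ = k g_a`
  have h1 : ∀ (a : P) (k : K) (i : ℕ), ((k : I) * g a) • (a.1.1 ^ i • a.1.2) = b.1 ^ i • b.2 := by
    intro a k i
    rw [mul_smul, hg a i, hK.1 k.2 i]
  have h2 : ∀ (a : P) (k : K), b.1⁻¹ * (((k : I) * g a) * a.1.1 * ((k : I) * g a)⁻¹) ∈ K := by
    intro a k
    rw [hK]
    intro i
    have e : ((k : I) * g a)⁻¹ • (b.1 ^ i • b.2) = a.1.1 ^ i • a.1.2 := by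
      rw [inv_smul_eq_iff, h1 a k i]
    rw [mul_smul, mul_smul, mul_smul, e, ← mul_smul a.1.1, ← pow_succ', h1 a k (i + 1), inv_smul_eq_iff, ← mul_smul,
      ← pow_succ']
  let Φ : P × K → I × K := fun ak => (((ak.2 : I) * g ak.1), ⟨_, h2 ak.1 ak.2⟩)
  have hΦ : Function.Injective Φ := by
    rintro ⟨a, k⟩ ⟨a', k'⟩ e
    have e1 : (k : I) * g a = (k' : I) * g a' := congrArg Prod.fst e
    have e2 : b.1⁻¹ * (((k : I) * g a) * a.1.1 * ((k : I) * g a)⁻¹) =
        b.1⁻¹ * (((k' : I) * g a') * a'.1.1 * ((k' : I) * g a')⁻¹) := congrArg (fun x : I × K => (x.2 : I)) e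
    have e3 : a.1.1 = a'.1.1 := by
      rw [← e1] at e2
      exact mul_left_cancel (mul_right_cancel (mul_left_cancel e2))
    have e4 : a.1.2 = a'.1.2 := by
      have f1 := h1 a k 0
      have f2 := h1 a' k' 0
      rw [pow_zero, one_smul] at f1 f2
      rw [← e1] at f2
      exact smul_left_cancel _ (f1.trans f2.symm)
    have e5 : a = a' := Subtype.ext (Prod.ext e3 e4)
    subst e5
    have e6 : k = k' := Subtype.ext (mul_right_cancel e1)
    rw [e6]
  have h3 := Nat.card_le_card_of_injective Φ hΦ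
  rw [Nat.card_prod, Nat.card_prod] at h3
  exact Nat.le_of_mul_le_mul_right h3 Nat.card_pos

/-- two linear maps with the same kernel differ by an automorphism of the target -/
theorem exists_aut {F V M : Type*} [Field F] [AddCommGroup V] [Module F V] [FiniteDimensional F V] [AddCommGroup M]
    [Module F M] (φ φ' : M →ₗ[F] V) (h : LinearMap.ker φ = LinearMap.ker φ') : ∃ g : V ≃ₗ[F] V, ∀ m, g (φ m) = φ' m := by
  let e0 : LinearMap.range φ ≃ₗ[F] LinearMap.range φ' :=
    φ.quotKerEquivRange.symm ≪≫ₗ (Submodule.quotEquivOfEq _ _ h) ≪≫ₗ φ'.quotKerEquivRange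
  have he0 : ∀ m, (e0 ⟨φ m, ⟨m, rfl⟩⟩ : V) = φ' m := by
    intro m
    have h1 : φ.quotKerEquivRange.symm ⟨φ m, ⟨m, rfl⟩⟩ = (LinearMap.ker φ).mkQ m := by
      rw [LinearEquiv.symm_apply_eq]
      rfl
    show ((φ'.quotKerEquivRange ((Submodule.quotEquivOfEq _ _ h) (φ.quotKerEquivRange.symm ⟨φ m, ⟨m, rfl⟩⟩)) :
      LinearMap.range φ') : V) = φ' m
    rw [h1]
    rfl
  obtain ⟨D, hD⟩ := Submodule.exists_isCompl (LinearMap.range φ)
  obtain ⟨D', hD'⟩ := Submodule.exists_isCompl (LinearMap.range φ')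
  have hfr : Module.finrank F D = Module.finrank F D' := by
    have h1 := Submodule.finrank_add_eq_of_isCompl hD
    have h2 := Submodule.finrank_add_eq_of_isCompl hD'
    have h3 := e0.finrank_eq
    omega
  let e1 : D ≃ₗ[F] D' := LinearEquiv.ofFinrankEq D D' hfr
  refine ⟨(Submodule.prodEquivOfIsCompl _ _ hD).symm ≪≫ₗ (e0.prodCongr e1) ≪≫ₗ Submodule.prodEquivOfIsCompl _ _ hD', ?_⟩
  intro m
  have h1 : (Submodule.prodEquivOfIsCompl _ _ hD).symm (φ m) = (⟨φ m, ⟨m, rfl⟩⟩, 0) :=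
    Submodule.prodEquivOfIsCompl_symm_apply_left _ _ hD (⟨φ m, ⟨m, rfl⟩⟩ : LinearMap.range φ)
  show (Submodule.prodEquivOfIsCompl _ _ hD') ((e0.prodCongr e1) ((Submodule.prodEquivOfIsCompl _ _ hD).symm (φ m))) = φ' m
  rw [h1]
  simp [he0]

variable {F : Type} [Field F] [Fintype F]

/-- the cyclic maps -/
noncomputable def cyc {ι : Type} [Fintype ι] [DecidableEq ι] (x : Matrix ι ι F) (v : ι → F) : F[X] →ₗ[F] (ι → F) where
  toFun p := (aeval x p).mulVec v
  map_add' p q := by rw [map_add, Matrix.add_mulVec]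
  map_smul' a p := by rw [map_smul, Matrix.smul_mulVec, RingHom.id_apply]

theorem exists_gl {ι : Type} [Fintype ι] [DecidableEq ι] {x x' : Matrix ι ι F} {v v' : ι → F} {f : F[X]}
    (h : Ann x v f) (h' : Ann x' v' f) :
    ∃ g : (Matrix ι ι F)ˣ, ∀ i : ℕ, (g : Matrix ι ι F).mulVec ((x ^ i).mulVec v) = (x' ^ i).mulVec v' := by
  have hk : LinearMap.ker (cyc x v) = LinearMap.ker (cyc x' v') := by
    ext p
    rw [LinearMap.mem_ker, LinearMap.mem_ker]
    exact (h p).trans (h' p).symm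
  obtain ⟨g, hg⟩ := exists_aut (cyc x v) (cyc x' v') hk
  refine ⟨⟨LinearMap.toMatrix' g.toLinearMap, LinearMap.toMatrix' g.symm.toLinearMap, ?_, ?_⟩, fun i => ?_⟩
  · rw [← LinearMap.toMatrix'_comp, LinearEquiv.comp_symm, LinearMap.toMatrix'_id]
  · rw [← LinearMap.toMatrix'_comp, LinearEquiv.symm_comp, LinearMap.toMatrix'_id]
  · have h1 := hg (X ^ i)
    have h2 : cyc x v (X ^ i) = (x ^ i).mulVec v := by
      show (aeval x (X ^ i)).mulVec v = _
      rw [map_pow, aeval_X]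
    have h3 : cyc x' v' (X ^ i) = (x' ^ i).mulVec v' := by
      show (aeval x' (X ^ i)).mulVec v' = _
      rw [map_pow, aeval_X]
    rw [h2, h3] at h1
    rw [← h1]
    show (LinearMap.toMatrix' g.toLinearMap).mulVec _ = _
    rw [LinearMap.toMatrix'_mulVec]
    rfl

/-- **B2** -/
theorem fms_gl {ι : Type} [Fintype ι] [DecidableEq ι] : FMS 0 (Units.coeHom (Matrix ι ι F)) where
  hs := Or.inl (Nat.zero_le _)
  gen := by
    intro f _ _ _ e _
    let act : MulAction (Matrix ι ι F)ˣ (ι → F) :=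
      { smul := fun g v => (g : Matrix ι ι F).mulVec v
        one_smul := fun v => Matrix.one_mulVec v
        mul_smul := fun g h v => (Matrix.mulVec_mulVec v (g : Matrix ι ι F) (h : Matrix ι ι F)).symm }
    have h1 := core_one (I := (Matrix ι ι F)ˣ) (V := ι → F)
      {xv : (Matrix ι ι F)ˣ × (ι → F) | Ann (Units.coeHom (Matrix ι ι F) xv.1) xv.2 f} (by
        rintro ⟨x, v⟩ hxv ⟨x', v'⟩ hxv'
        obtain ⟨g, hg⟩ := exists_gl (x := (x : Matrix ι ι F)) (x' := (x' : Matrix ι ι F)) hxv hxv'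
        refine ⟨g, fun i => ?_⟩
        have h2 := hg i
        rw [← Units.val_pow_eq_pow_val, ← Units.val_pow_eq_pow_val] at h2
        exact h2)
    have h3 : (1 : ℝ) ≤ √(Fintype.card F : ℝ) ^ e := by
      apply one_le_pow₀
      rw [Real.one_le_sqrt]
      exact_mod_cast Fintype.card_pos
    unfold FM
    calc (Nat.card {xv : (Matrix ι ι F)ˣ × (ι → F) // Ann (Units.coeHom (Matrix ι ι F) xv.1) xv.2 f} : ℝ)
        ≤ Nat.card (Matrix ι ι F)ˣ := by exact_mod_cast h1
      _ ≤ √(Fintype.card F : ℝ) ^ e * Nat.card (Matrix ι ι F)ˣ := le_mul_of_one_le_left (Nat.cast_nonneg _) h3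
  all h := absurd h (by norm_num)
  dual h := absurd rfl h

end Cfsg.Agent.H83.RG
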